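import Cfsg.Agent.Sig.G2a
import Cfsg.Agent.S4142

/-! Camina pairs of odd `p`-groups with an involution inverting the top. -/

set_option autoImplicit false

namespace Cfsg.Agent.Vz

open Subgroup Cfsg.Agent.BG

universe u

section
variable {P : Type u} [Group P] [Finite P] {p : ℕ} [hpp : Fact p.Prime]

theorem vp_sq (hp : p ≠ 2) (hP : IsPGroup p P) (x : P) : ∃ k : ℕ, (x ^ 2) ^ k = x := by
  obtain ⟨n, hn⟩ := hP x
  exact exists_pow_eq_self_of_coprime (Nat.Coprime.coprime_dvd_right (orderOf_dvd_of_pow_eq_one hn)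
    (((Nat.coprime_primes Nat.prime_two hpp.out).2 hp.symm).pow_right n))

theorem vp_one (hp : p ≠ 2) (hP : IsPGroup p P) {x : P} (h : x * x = 1) : x = 1 := by
  obtain ⟨k, hk⟩ := vp_sq hp hP x
  rw [← hk, pow_two, h, one_pow]

theorem vp_cen (hP : IsPGroup p P) {N : Subgroup P} [hN : N.Normal] (h : N ≠ ⊥) :
    ∃ w ∈ N, w ∈ center P ∧ orderOf w = p := by
  have h1 : IsPGroup p (ConjAct P) := hP.of_equiv ConjAct.toConjAct
  have h2 : p ∣ Nat.card N := ((hP.to_subgroup N).card_eq_or_dvd).resolve_left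
    fun e => h (card_eq_one.1 e)
  obtain ⟨b, hb, hb1⟩ := h1.exists_fixed_point_of_prime_dvd_card_of_fixed_point N h2
    (a := 1) (fun g => smul_one g)
  have hc : (b : P) ∈ center P := mem_center_iff.2 fun g => by
    have := congrArg Subtype.val (hb (ConjAct.toConjAct g))
    rw [← mul_inv_eq_iff_eq_mul]
    exact this
  have h3 : p ∣ orderOf (b : P) := by
    obtain ⟨n, hn⟩ := (hP.to_subgroup N) b
    obtain ⟨k, -, hk⟩ := (Nat.dvd_prime_pow hpp.out).1 (orderOf_dvd_of_pow_eq_one hn)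
    rw [orderOf_coe, hk]
    refine dvd_pow_self p ?_
    rintro rfl
    exact hb1 (orderOf_eq_one_iff.1 hk).symm
  exact ⟨(b : P) ^ (orderOf (b : P) / p), N.pow_mem b.2 _, pow_mem hc _,
    orderOf_pow_orderOf_div (orderOf_pos _).ne' h3⟩

theorem vp_cls {D Z : Subgroup P} {x : P} (h : ∀ n ∈ D, n * x * n⁻¹ * x⁻¹ ∈ Z) :
    C1[x].relIndex D ≤ Nat.card Z := by
  rw [← Gen2.ncard_conj_by]
  have h3 : ((fun n => n * x) '' (Z : Set P)).ncard = Nat.card Z := by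
    rw [Set.ncard_image_of_injective _ (mul_left_injective x)]
    rfl
  rw [← h3]
  refine Set.ncard_le_ncard ?_
  rintro _ ⟨n, hn, rfl⟩
  exact ⟨_, h n hn, by simp⟩

theorem vp_count (hP : IsPGroup p P) {N Z : Subgroup P} (hZ : Nat.card Z = p) (hZN : Z ≤ N)
    (hZc : Z ≤ center P) (hc : ∀ g : P, ∀ w ∈ N, g * w * g⁻¹ * w⁻¹ ∈ Z) :
    C[N].index * p ≤ Nat.card N := by
  obtain ⟨W, -, ⟨hWN, hW⟩, hmax⟩ := Finite.exists_le_maximal
    (p := fun W : Subgroup P => W ≤ N ∧ C[W].index * p ≤ Nat.card W) (a := Z) ⟨hZN, by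
      have : C[Z] = ⊤ := eq_top_iff.2 fun g _ z hz => (mem_center_iff.1 (hZc hz) g).symm
      rw [this, index_top, one_mul, hZ]⟩
  by_cases e : N ≤ W
  · rwa [le_antisymm e hWN]
  obtain ⟨w, hw, hwW⟩ := SetLike.not_le_iff_exists.1 e
  have hlt : W < W ⊔ zpowers w :=
    lt_of_le_of_ne le_sup_left fun e => hwW (e ▸ mem_sup_right (mem_zpowers w))
  refine absurd (hmax (y := W ⊔ zpowers w) ⟨sup_le hWN (zpowers_le.2 hw), ?_⟩ le_sup_left) hlt.2
  have h1 : C[W] ⊓ C1[w] ≤ C[W ⊔ zpowers w] := fun g hg =>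
    le_centralizer_iff.1 (show W ⊔ zpowers w ≤ C[zpowers g] from sup_le
      (le_centralizer_iff.1 (zpowers_le.2 hg.1))
      (zpowers_le.2 fun _ ⟨k, hk⟩ => hk ▸ (Commute.zpow_left (Gen2.mem_cent.1 hg.2) k).eq))
      (mem_zpowers g)
  have h2 : C1[w].index ≤ p := by
    rw [← relIndex_top_right, ← hZ]
    exact vp_cls fun n _ => hc n w hw
  have h3 : C[W ⊔ zpowers w].index ≤ C[W].index * p :=
    (Nat.le_of_dvd (Nat.pos_of_ne_zero index_ne_zero_of_finite) (index_dvd_of_le h1)).trans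
      (index_inf_le.trans (Nat.mul_le_mul_left _ h2))
  obtain ⟨a, ha⟩ := (hP.to_subgroup W).exists_card_eq
  obtain ⟨b, hb⟩ := (hP.to_subgroup (W ⊔ zpowers w)).exists_card_eq
  have h4 : Nat.card W < Nat.card (W ⊔ zpowers w : Subgroup P) :=
    lt_of_le_of_ne (card_le_of_le hlt.le) fun e => hlt.ne (eq_of_le_of_card_ge hlt.le e.ge)
  rw [ha, hb] at h4
  have h5 : a + 1 ≤ b := (Nat.pow_lt_pow_iff_right hpp.out.one_lt).1 h4
  calc _ ≤ C[W].index * p * p := Nat.mul_le_mul_right _ h3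
    _ ≤ p ^ a * p := Nat.mul_le_mul_right _ (ha ▸ hW)
    _ ≤ _ := by rw [hb, ← pow_succ]; exact Nat.pow_le_pow_right hpp.out.pos h5

theorem vp_step (hp : p ≠ 2) (hP : IsPGroup p P) (σ : P →* P) {N : Subgroup P} [hN : N.Normal]
    (hσ : ∀ x, σ (σ x) = x) (hi : ∀ x, σ x * x ∈ N) (hne : N ≠ ⊤)
    (cam : ∀ x, x ∉ N → ∀ w ∈ N, ∃ y, y * x * y⁻¹ = x * w) {z : P} (hz : z ∈ N)
    (hzc : z ∈ center P) (ho : orderOf z = p) (hσz : σ z = z⁻¹)
    (ih : ∀ w ∈ N, w⁻¹ * σ w ∈ zpowers z) : False := by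
  set Z := zpowers z with hZ
  have hZc : Z ≤ center P := zpowers_le.2 hzc
  haveI hZn : Z.Normal := ⟨fun a ha g => by
    rw [mem_center_iff.1 (hZc ha) g, mul_inv_cancel_right]; exact ha⟩
  have hinv : ∀ c ∈ Z, σ c = c⁻¹ := by
    rintro _ ⟨k, rfl⟩
    simp only [map_zpow, hσz, inv_zpow]
  have dec : ∀ x : P, ∃ x0, σ x0 = x0⁻¹ ∧ ∃ w ∈ N, x = x0 * w := fun x => by
    obtain ⟨k, hk⟩ := vp_sq hp hP x
    refine ⟨(x * (σ x)⁻¹) ^ k, by rw [map_pow, map_mul, map_inv, hσ, ← inv_pow, mul_inv_rev,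
      inv_inv], ((x * (σ x)⁻¹) ^ k)⁻¹ * x, ?_, by rw [mul_inv_cancel_left]⟩
    have h1 : ((σ x : P) : P ⧸ N)⁻¹ = x := by
      rw [inv_eq_iff_mul_eq_one, ← QuotientGroup.mk_mul, QuotientGroup.eq_one_iff]
      exact hi x
    rw [← QuotientGroup.eq, QuotientGroup.mk_pow, QuotientGroup.mk_mul, QuotientGroup.mk_inv, h1,
      ← QuotientGroup.mk_mul, ← QuotientGroup.mk_pow, ← pow_two, hk]
  let π := QuotientGroup.mk' Z
  have hπ : ∀ w ∈ N, π (σ w) = π w := fun w hw => (QuotientGroup.eq.2 (ih w hw)).symm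
  have hπσ : ∀ a b, π a = π b → π (σ a) = π (σ b) := fun a b h => by
    have h1 : a⁻¹ * b ∈ Z := QuotientGroup.eq.1 h
    refine QuotientGroup.eq.2 ?_
    rw [← map_inv, ← map_mul, hinv _ h1]
    exact inv_mem h1
  set K := (C[N.map π]).comap π with hK
  have memK : ∀ g, g ∈ K ↔ ∀ w ∈ N, π w * π g = π g * π w := fun g =>
    ⟨fun h w hw => h _ ⟨w, hw, rfl⟩, fun h => by rintro _ ⟨w, hw, rfl⟩; exact h w hw⟩
  have k1 : ∀ x, σ x = x⁻¹ → x ∈ K := fun x hx => by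
    obtain ⟨k, hk⟩ := vp_sq hp hP x
    rw [← hk]
    refine K.pow_mem ((memK _).2 fun w hw => ?_) k
    have h1 := hπ _ (hN.conj_mem w hw x)
    simp only [map_mul, map_inv, hx, hπ w hw, inv_inv] at h1
    rw [pow_two, map_mul]
    calc π w * (π x * π x) = π x * ((π x)⁻¹ * π w * π x) * π x := by group
      _ = _ := by rw [h1]; group
  obtain ⟨x, hxN, hx⟩ : ∃ x, x ∉ N ∧ σ x = x⁻¹ := by
    obtain ⟨x, -, hx⟩ := SetLike.not_le_iff_exists.1 fun h : ⊤ ≤ N => hne (top_le_iff.1 h)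
    obtain ⟨x0, h0, w, hw, rfl⟩ := dec x
    by_contra h
    push Not at h
    exact hx (mul_mem (by_contra fun e => h x0 e h0) hw)
  have k2 : N ≤ K := fun w hw => by
    obtain ⟨y, hy⟩ := cam x hxN w hw
    obtain ⟨y0, h0, w0, hw0, rfl⟩ := dec y
    have h1 : π w = π (x⁻¹ * y0 * x * y0⁻¹) := by
      have h2 := congrArg π hy
      have h3 := (memK x).1 (k1 x hx) w0 hw0
      simp only [map_mul, map_inv] at h2 ⊢
      calc π w = (π x)⁻¹ * (π x * π w) := by group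
        _ = (π x)⁻¹ * (π y0 * (π w0 * π x) * (π w0)⁻¹ * (π y0)⁻¹) := by rw [← h2]; group
        _ = _ := by rw [h3]; group
    change π w ∈ C[N.map π]
    rw [h1]
    exact K.mul_mem (K.mul_mem (K.mul_mem (K.inv_mem (k1 x hx)) (k1 y0 h0)) (k1 x hx))
      (K.inv_mem (k1 y0 h0))
  have hc : ∀ g : P, ∀ w ∈ N, g * w * g⁻¹ * w⁻¹ ∈ Z := fun g w hw => by
    obtain ⟨g0, h0, w0, hw0, e⟩ := dec g
    have h1 := (memK g).1 (e ▸ K.mul_mem (k1 g0 h0) (k2 hw0)) w hw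
    rw [← QuotientGroup.eq_one_iff]
    change π _ = 1
    simp only [map_mul, map_inv, ← h1]
    group
  have ab : ∀ a ∈ N, ∀ b ∈ N, a * b = b * a := fun a ha b hb => by
    have h1 := hinv _ (hc a b hb)
    have ca := mem_center_iff.1 (hZc (ih a ha))
    have cb := mem_center_iff.1 (hZc (ih b hb))
    obtain ⟨c, hca⟩ : ∃ c, c = a⁻¹ * σ a := ⟨_, rfl⟩
    obtain ⟨d, hdb⟩ : ∃ d, d = b⁻¹ * σ b := ⟨_, rfl⟩
    rw [← hca] at ca
    rw [← hdb] at cb
    have ea : σ a = a * c := by rw [hca, mul_inv_cancel_left]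
    have eb : σ b = b * d := by rw [hdb, mul_inv_cancel_left]
    have h2 : σ (a * b * a⁻¹ * b⁻¹) = a * b * a⁻¹ * b⁻¹ := by
      simp only [map_mul, map_inv, ea, eb]
      calc a * c * (b * d) * (a * c)⁻¹ * (b * d)⁻¹
          = a * ((b * d) * c) * c⁻¹ * a⁻¹ * (b * d)⁻¹ := by rw [ca (b * d)]; group
        _ = a * b * (d * a⁻¹) * d⁻¹ * b⁻¹ := by group
        _ = _ := by rw [← cb a⁻¹]; group
    rw [h2, eq_inv_iff_mul_eq_one] at h1
    have h3 := vp_one hp hP h1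
    rw [mul_inv_eq_one, mul_inv_eq_iff_eq_mul] at h3
    exact h3
  have hCN : C[N] ≤ N := fun g hg => by
    obtain ⟨g0, h0, w0, hw0, e⟩ := dec g
    by_contra hgN
    have h1 : g0 ∉ N := fun h => hgN (e ▸ mul_mem h hw0)
    have h2 : g0 ∈ C[N] := by
      have : g0 = g * w0⁻¹ := by rw [e, mul_inv_cancel_right]
      rw [this]
      exact mul_mem hg (inv_mem fun a ha => ab a ha w0 hw0)
    obtain ⟨y, hy⟩ := cam g0 h1 z hz
    obtain ⟨y0, hy0, w1, hw1, rfl⟩ := dec y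
    have h3 : y0 * g0 * y0⁻¹ = g0 * z := by
      rw [← hy]
      calc y0 * g0 * y0⁻¹ = y0 * (g0 * w1) * w1⁻¹ * y0⁻¹ := by group
        _ = _ := by rw [← h2 w1 hw1]; group
    have h4 := congrArg σ h3
    simp only [map_mul, map_inv, hy0, h0, hσz, inv_inv] at h4
    have cz := mem_center_iff.1 hzc
    have h5 : z * z = 1 := by
      calc z * z = g0⁻¹ * (y0 * g0 * y0⁻¹) * z := by rw [h3]; group
        _ = g0⁻¹ * y0 * (g0 * (y0⁻¹ * z)) := by group
        _ = g0⁻¹ * y0 * (g0 * (z * y0⁻¹)) := by rw [cz]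
        _ = g0⁻¹ * y0 * ((g0 * z) * y0⁻¹) := by group
        _ = g0⁻¹ * y0 * ((g0⁻¹ * z⁻¹)⁻¹ * y0⁻¹) := by rw [cz g0]; group
        _ = 1 := by rw [← h4]; group
    have h6 := vp_one hp hP h5
    rw [h6, orderOf_one] at ho
    exact hpp.out.one_lt.ne ho
  have hZp : Nat.card Z = p := by rw [hZ, Nat.card_zpowers, ho]
  have c1 := vp_count hP hZp (zpowers_le.2 hz) hZc hc
  rw [le_antisymm hCN fun g hg a ha => ab a ha g hg] at c1
  have c2 : C1[x].relIndex N ≤ p := hZp ▸ vp_cls fun n hn => by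
    have := inv_mem (hc x n hn)
    simpa [mul_assoc] using this
  have c3 : Nat.card N ≤ C1[x].index := by
    rw [← relIndex_top_right, ← Gen2.ncard_conj_by]
    have h3 : ((fun n => x * n) '' (N : Set P)).ncard = Nat.card N := by
      rw [Set.ncard_image_of_injective _ (mul_right_injective x)]
      rfl
    rw [← h3]
    refine Set.ncard_le_ncard ?_
    rintro _ ⟨n, hn, rfl⟩
    obtain ⟨y, hy⟩ := cam x hxN n hn
    exact ⟨y, trivial, hy⟩
  have c4 := C1[x].card_mul_index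
  have c5 := N.card_mul_index
  have c6 := card_inf_mul_relIndex C1[x] N
  have c7 : Nat.card (C1[x] ⊓ N : Subgroup P) < Nat.card C1[x] :=
    lt_of_le_of_ne (card_le_of_le inf_le_left) fun e => hxN
      ((eq_of_le_of_card_ge inf_le_left e.ge).ge (Gen2.self_mem_cent x)).2
  have c8 : 0 < Nat.card N := Nat.card_pos
  have c9 : Nat.card C1[x] ≤ N.index := by
    refine Nat.le_of_mul_le_mul_right ?_ c8
    rw [mul_comm N.index, c5, ← c4]
    exact Nat.mul_le_mul_left _ c3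
  have c10 : Nat.card N ≤ Nat.card (C1[x] ⊓ N : Subgroup P) * p :=
    c6 ▸ Nat.mul_le_mul_left _ c2
  have c11 := Nat.mul_lt_mul_of_pos_right (c7.trans_le c9) hpp.out.pos
  omega

end

theorem vp_aux {p : ℕ} [hpp : Fact p.Prime] (hp : p ≠ 2) (n : ℕ) :
    ∀ (P : Type u) [Group P] [Finite P], Nat.card P ≤ n → IsPGroup p P →
      ∀ (σ : P →* P) (N : Subgroup P) [N.Normal], (∀ x, σ (σ x) = x) → (∀ w ∈ N, σ w ∈ N) →
      (∀ x, σ x * x ∈ N) → N ≠ ⊤ → (∀ x, x ∉ N → ∀ w ∈ N, ∃ y, y * x * y⁻¹ = x * w) →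
      ∀ w ∈ N, σ w = w := by
  induction n with
  | zero => exact fun P _ _ h => absurd h (not_le.2 Nat.card_pos)
  | succ n ih =>
  intro P _ _ hc hP σ N hN hσ hσN hi hne cam
  by_cases h0 : N = ⊥
  · intro w hw
    rw [h0, mem_bot] at hw
    rw [hw, map_one]
  obtain ⟨z, hz, hzc, ho, hσz⟩ : ∃ z ∈ N, z ∈ center P ∧ orderOf z = p ∧ (σ z = z ∨ σ z = z⁻¹) := by
    obtain ⟨w, hw, hwc, ho⟩ := vp_cen hP h0
    by_cases e : w * σ w = 1
    · exact ⟨w, hw, hwc, ho, Or.inr (eq_inv_of_mul_eq_one_right e)⟩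
    have hc2 : σ w ∈ center P := mem_center_iff.2 fun g => by
      rw [← hσ g, ← map_mul, ← map_mul, mem_center_iff.1 hwc]
    refine ⟨w * σ w, mul_mem hw (hσN w hw), mul_mem hwc hc2, orderOf_eq_prime ?_ e, Or.inl ?_⟩
    · rw [Commute.mul_pow (mem_center_iff.1 hc2 w), ← map_pow, ← ho, pow_orderOf_eq_one, map_one,
        mul_one]
    · rw [map_mul, hσ, mem_center_iff.1 hwc]
  have hZc : zpowers z ≤ center P := zpowers_le.2 hzc
  haveI hZn : (zpowers z).Normal := ⟨fun a ha g => by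
    rw [mem_center_iff.1 (hZc ha) g, mul_inv_cancel_right]; exact ha⟩
  have hZσ : zpowers z ≤ (zpowers z).comap σ := zpowers_le.2 (by
    change σ z ∈ zpowers z
    rcases hσz with e | e <;> rw [e]
    · exact mem_zpowers z
    · exact inv_mem (mem_zpowers z))
  let π := QuotientGroup.mk' (zpowers z)
  have hπ := QuotientGroup.mk'_surjective (zpowers z)
  have mem : ∀ x, π x ∈ N.map π ↔ x ∈ N := fun x => by
    rw [← mem_comap, comap_map_eq, QuotientGroup.ker_mk', sup_eq_left.2 (zpowers_le.2 hz)]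
  haveI : (N.map π).Normal := hN.map π hπ
  have key := ih (P ⧸ zpowers z) (by
      have h1 := (zpowers z).card_mul_index
      rw [Nat.card_zpowers, ho] at h1
      have h2 := hpp.out.two_le
      have h3 : 0 < (zpowers z).index := Nat.pos_of_ne_zero index_ne_zero_of_finite
      change (zpowers z).index ≤ n
      nlinarith) (hP.to_quotient _) (QuotientGroup.map _ _ σ hZσ) (N.map π)
    (fun x => by
      obtain ⟨x, rfl⟩ := hπ x
      change π (σ (σ x)) = π x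
      rw [hσ])
    (by
      rintro _ ⟨w, hw, rfl⟩
      exact ⟨σ w, hσN w hw, rfl⟩)
    (fun x => by
      obtain ⟨x, rfl⟩ := hπ x
      exact ⟨_, hi x, rfl⟩)
    (fun h => hne (eq_top_iff.2 fun x _ => (mem x).1 (h ▸ mem_top _)))
    (fun x hx w hw => by
      obtain ⟨x, rfl⟩ := hπ x
      obtain ⟨w, hw, rfl⟩ := hw
      obtain ⟨y, hy⟩ := cam x (fun h => hx ((mem x).2 h)) w hw
      exact ⟨π y, by rw [← map_inv, ← map_mul, ← map_mul, hy, map_mul]⟩)
  have key' : ∀ w ∈ N, w⁻¹ * σ w ∈ zpowers z := fun w hw =>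
    QuotientGroup.eq.1 (key (π w) ⟨w, hw, rfl⟩).symm
  rcases hσz with e | e
  · intro w hw
    obtain ⟨k, hk⟩ := key' w hw
    have h1 : σ w = w * z ^ k := by rw [show z ^ k = w⁻¹ * σ w from hk, mul_inv_cancel_left]
    have h2 := hσ w
    rw [h1, map_mul, map_zpow, e, h1, mul_assoc, mul_eq_left] at h2
    rw [h1, vp_one hp hP h2, mul_one]
  · exact (vp_step hp hP σ hσ hi hne cam hz hzc ho e key').elim

theorem pg {G : Type u} [Group G] [Finite G] {p : ℕ} [Fact p.Prime] (hp : p ≠ 2)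
    {P P0 : Subgroup G} {h : G} (hP : IsPGroup p P) (h0 : P0 ≤ P) (n0 : P ≤ N[P0])
    (hh : h ∈ N[P]) (hh0 : h ∈ N[P0]) (h2 : h * h = 1) (hi : ∀ x ∈ P, h * x * h⁻¹ * x ∈ P0)
    (hne : ¬ P ≤ P0) (cam : ∀ x ∈ P, x ∉ P0 → ∀ w ∈ P0, ∃ y ∈ P, y * x * y⁻¹ = x * w) :
    h ∈ C[P0] := by
  let σ : P →* P :=
    { toFun := fun x => ⟨h * x * h⁻¹, conj_mem_of_norm hh x.2⟩
      map_one' := Subtype.ext (by simp)
      map_mul' := fun a b => Subtype.ext (by simp [mul_assoc]) }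
  haveI : (P0.subgroupOf P).Normal := ⟨fun a ha g => conj_mem_of_norm (A := P0) (x := a) (n0 g.2) ha⟩
  have key := vp_aux hp _ P le_rfl hP σ (P0.subgroupOf P)
    (fun x => Subtype.ext (by
      change h * (h * x * h⁻¹) * h⁻¹ = x
      calc h * (h * x * h⁻¹) * h⁻¹ = (h * h) * x * (h * h)⁻¹ := by group
        _ = x := by rw [h2]; group))
    (fun w hw => conj_mem_of_norm (A := P0) (x := w) hh0 hw) (fun x => hi x x.2)
    (fun e => hne (subgroupOf_eq_top.1 e))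
    (fun x hx w hw => by
      obtain ⟨y, hy, e⟩ := cam x x.2 hx w hw
      exact ⟨⟨y, hy⟩, Subtype.ext e⟩)
  intro w hw
  have := congrArg Subtype.val (key ⟨w, h0 hw⟩ hw)
  change h * w * h⁻¹ = w at this
  rw [mul_inv_eq_iff_eq_mul] at this
  exact this.symm

end Cfsg.Agent.Vz
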