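import Cfsg.Agent.Vz.B
import Cfsg.Agent.Vz.P

/-! Groups with `G' \ K` a single class are solvable (`solv`). -/

set_option autoImplicit false
set_option linter.unusedVariables false
set_option linter.unusedSectionVars false

namespace Cfsg.Agent.Vz
open Subgroup Cfsg.Agent.BG
open scoped commutatorElement
universe u

theorem odd_case {G : Type u} [Group G] [Finite G] {p : ℕ} [hp : Fact p.Prime] (h2 : p ≠ 2) {M K L : Subgroup G}
    [M.Normal] [K.Normal] [L.Normal] (LK : L ≤ K) (KM : K ≤ M) (hL : ∀ c ∈ M, ∃ k, c ^ p ^ k ∈ L) {h g : G}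
    (hh : h * h ∈ M) (hi : ∀ x ∈ M, h * x * h⁻¹ * x ∈ K) (ab : ∀ x ∈ M, ∀ y ∈ M, ⁅x, y⁆ ∈ K) (ex : ∀ x ∈ M, x ^ p ∈ K)
    (cam : ∀ x ∈ M, x ∉ K → ∀ w ∈ K, ∃ y ∈ M, y * x * y⁻¹ = x * w) (hg : g ∈ M) (gK : g ∉ K) :
    ∃ s ∈ M, s ∉ K ∧ s ^ p ∈ L := by
  obtain ⟨j, hj⟩ := hL _ hh
  obtain ⟨m, hm⟩ := (hp.out.odd_of_ne_two h2).pow (n := j)
  obtain ⟨m', hm'⟩ := hp.out.odd_of_ne_two h2
  obtain ⟨r, hr⟩ : ∃ r, r = h ^ p ^ j := ⟨_, rfl⟩
  have r2 : r * r ∈ L := by rwa [hr, ← (Commute.refl h).mul_pow]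
  have cM : ∀ y, ∀ x ∈ M, y * x * y⁻¹ ∈ M := fun y x hx => Normal.conj_mem inferInstance x hx y
  have ri : ∀ x ∈ M, r * x * r⁻¹ * x ∈ K := fun x hx => by
    have e : r * x * r⁻¹ * x = ⁅(h * h) ^ m, h * x * h⁻¹⁆ * (h * x * h⁻¹ * x) := by
      rw [hr, hm, pow_succ, pow_mul, sq, commutatorElement_def]; group
    exact e ▸ mul_mem (ab _ (pow_mem hh m) _ (cM h x hx)) (hi x hx)
  have mK : ∀ x, QuotientGroup.mk' L x ∈ K.map (QuotientGroup.mk' L) → x ∈ K := fun x hx => by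
    rwa [← mem_comap, comap_map_eq, QuotientGroup.ker_mk', sup_eq_left.2 LK] at hx
  have nM := (inferInstance : M.Normal).map _ (QuotientGroup.mk'_surjective L)
  have nK := (inferInstance : K.Normal).map _ (QuotientGroup.mk'_surjective L)
  have pM : IsPGroup p (M.map (QuotientGroup.mk' L)) := by
    rintro ⟨_, c, hc, rfl⟩
    obtain ⟨k, hk⟩ := hL c hc
    exact ⟨k, Subtype.ext ((QuotientGroup.eq_one_iff (c ^ p ^ k)).2 hk)⟩
  have rr : QuotientGroup.mk' L r * QuotientGroup.mk' L r = 1 := (QuotientGroup.eq_one_iff (r * r)).2 r2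
  have key := pg h2 (P := M.map (QuotientGroup.mk' L)) (P0 := K.map (QuotientGroup.mk' L)) (h := QuotientGroup.mk' L r)
    pM (map_mono KM) (le_normalizer_of_normal) (by rw [normalizer_eq_top]; trivial) (by rw [normalizer_eq_top]; trivial)
    rr (by rintro _ ⟨x, hx, rfl⟩; exact ⟨_, ri x hx, by simp⟩) (fun e => gK (mK g (e ⟨g, hg, rfl⟩))) (by
      rintro _ ⟨x, hx, rfl⟩ h1 _ ⟨w, hw, rfl⟩
      obtain ⟨y, hy, e⟩ := cam x hx (fun e => h1 ⟨x, e, rfl⟩) w hw
      exact ⟨_, ⟨y, hy, rfl⟩, by rw [← map_inv, ← map_mul, ← map_mul, ← map_mul, e]⟩)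
  have sM : ⁅g, r⁆ ∈ M := by
    rw [commutatorElement_def, mul_assoc, mul_assoc, ← mul_assoc r]
    exact mul_mem hg (cM r _ (inv_mem hg))
  refine ⟨⁅g, r⁆, sM, fun e => gK ?_, ?_⟩
  · have e1 : g * g ∈ K := by
      have := mul_mem (inv_mem (Normal.conj_mem inferInstance _ (ri _ (inv_mem hg)) g)) e
      rwa [show (g * (r * g⁻¹ * r⁻¹ * g⁻¹) * g⁻¹)⁻¹ * ⁅g, r⁆ = g * g by
        simp only [commutatorElement_def, mul_inv_rev, inv_inv, mul_assoc, inv_mul_cancel_left, mul_inv_cancel_left,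
          mul_inv_cancel, mul_one]] at this
    have := ex g hg
    rwa [hm', pow_succ, pow_mul, sq, mul_mem_cancel_left (pow_mem e1 m')] at this
  · have e1 : QuotientGroup.mk' L r * QuotientGroup.mk' L ⁅g, r⁆ * (QuotientGroup.mk' L r)⁻¹ =
        (QuotientGroup.mk' L ⁅g, r⁆)⁻¹ := by
      rw [map_commutatorElement, commutatorElement_def]
      generalize QuotientGroup.mk' L r = R at rr
      generalize QuotientGroup.mk' L g = X
      have ri : R⁻¹ = R := mul_eq_one_iff_inv_eq.1 rr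
      simp only [mul_inv_rev, inv_inv, ri, mul_assoc, rr, mul_one]
    have e2 := conj_eq_of_cent key ⟨_, ex _ sM, rfl⟩
    rw [map_pow, ← conj_pow, e1, inv_pow, ← map_pow] at e2
    obtain ⟨k, hk⟩ := hL _ (pow_mem sM p)
    obtain ⟨n, hn⟩ := (hp.out.odd_of_ne_two h2).pow (n := k)
    rw [← QuotientGroup.eq_one_iff] at hk ⊢
    have hk' : QuotientGroup.mk' L (⁅g, r⁆ ^ p) ^ p ^ k = 1 := by rw [← map_pow]; exact hk
    rwa [hn, pow_succ, pow_mul, sq, mul_eq_one_iff_inv_eq.2 e2, one_pow, one_mul] at hk'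

theorem solv {G : Type u} [Group G] [Finite G] {K : Subgroup G} [K.Normal] {g : G} (hK : K ≤ commutator G)
    (hg : g ∈ commutator G) (gK : g ∉ K) (hc : ∀ x ∈ commutator G, x ∉ K → IsConj g x)
    (hz : ∀ b : G, (∀ y : G, ⁅b, y⁆ ∈ K) → b ∈ commutator G) : Group.IsSolvable G := by
  have cm : ∀ a b : G, ⁅a, b⁆ ∈ commutator G := fun a b => commutator_mem_commutator (mem_top a) (mem_top b)
  have nM : (commutator G).Normal := inferInstance
  have hM : commutator G ≤ commutator G := le_rfl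
  generalize hE : commutator G = M at hK hg hc hz cm nM
  have e1 : ∀ x, QuotientGroup.mk' K x = 1 ↔ x ∈ K := fun x => QuotientGroup.eq_one_iff x
  have mM : ∀ x, QuotientGroup.mk' K x ∈ M.map (QuotientGroup.mk' K) → x ∈ M := fun x hx => by
    rwa [← mem_comap, comap_map_eq, QuotientGroup.ker_mk', sup_eq_left.2 hK] at hx
  have oc : ∀ x ∈ M, x ∉ K → orderOf x = orderOf g := fun x hx h => by
    obtain ⟨y, rfl⟩ := isConj_iff.1 (hc x hx h)
    exact orderOf_conj' y g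
  have oq : ∀ x ∈ M, x ∉ K → IsConj (QuotientGroup.mk' K g) (QuotientGroup.mk' K x) := fun x hx h =>
    MonoidHom.map_isConj _ (hc x hx h)
  obtain ⟨p, hp, hd⟩ := Nat.exists_prime_and_dvd (n := orderOf (QuotientGroup.mk' K g))
    (fun e => gK ((e1 g).1 (orderOf_eq_one_iff.1 e)))
  have := Fact.mk hp
  have og : ∃ k, orderOf g = p ^ k := by
    have n0 := (orderOf_pos g).ne'
    refine ⟨(orderOf g).factorization p, ?_⟩
    have hn : g ^ (orderOf g / p ^ (orderOf g).factorization p) ∉ K := fun e => by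
      rw [← e1, map_pow, ← orderOf_dvd_iff_pow_eq_one] at e
      exact Nat.not_dvd_ordCompl hp n0 (hd.trans e)
    exact (oc _ (pow_mem hg _) hn).symm.trans (orderOf_pow_orderOf_div n0 (Nat.ordProj_dvd _ _))
  have op : orderOf (QuotientGroup.mk' K g) = p := by
    have n0 := (orderOf_pos (QuotientGroup.mk' K g)).ne'
    have e := orderOf_pow_orderOf_div n0 hd
    rw [← map_pow] at e
    obtain ⟨y, hy⟩ := isConj_iff.1 (oq _ (pow_mem hg (orderOf (QuotientGroup.mk' K g) / p)) fun e' => by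
      rw [(e1 _).2 e', orderOf_one] at e
      exact hp.one_lt.ne e)
    rwa [← hy, orderOf_conj'] at e
  have t : TQ p (M.map (QuotientGroup.mk' K)) := by
    refine ⟨fun a b => ?_, ?_, ?_, fun b hb => ?_⟩
    · obtain ⟨a, rfl⟩ := QuotientGroup.mk'_surjective K a
      obtain ⟨b, rfl⟩ := QuotientGroup.mk'_surjective K b
      exact ⟨_, cm a b, map_commutatorElement _ _ _⟩
    · rintro _ ⟨x, hx, rfl⟩ h1 _ ⟨y, hy, rfl⟩ h2
      exact (oq x hx fun e => h1 ((e1 x).2 e)).symm.trans (oq y hy fun e => h2 ((e1 y).2 e))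
    · rintro _ ⟨x, hx, rfl⟩
      by_cases h : x ∈ K
      · rw [(e1 x).2 h, one_pow]
      · obtain ⟨y, hy⟩ := isConj_iff.1 (oq x hx h)
        rw [← hy, conj_pow, ← op, pow_orderOf_eq_one, mul_one, mul_inv_cancel]
    · obtain ⟨b, rfl⟩ := QuotientGroup.mk'_surjective K b
      exact ⟨b, hz b fun y => (e1 _).1 (by rw [map_commutatorElement, hb]), rfl⟩
  obtain ⟨C, hC⟩ : ∃ C, C = (C[M.map (QuotientGroup.mk' K)]).comap (QuotientGroup.mk' K) := ⟨_, rfl⟩
  have nq := nM.map _ (QuotientGroup.mk'_surjective K)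
  have nC : C.Normal := hC ▸ Normal.comap inferInstance _
  have MC : M ≤ C := fun x hx => hC ▸ t.ab ⟨x, hx, rfl⟩
  have cam : ∀ x ∈ M, x ∉ K → ∀ w ∈ K, ∃ y ∈ C, y * x * y⁻¹ = x * w := fun x hx h w hw => by
    obtain ⟨y, hy⟩ := isConj_iff.1 ((hc x hx h).symm.trans
      (hc (x * w) (mul_mem hx (hK hw)) fun e => h ((mul_mem_cancel_right hw).1 e)))
    refine ⟨y, hC ▸ t.st ⟨x, hx, rfl⟩ (fun e => h ((e1 x).1 e)) ?_, hy⟩
    rw [← map_inv, ← map_mul, ← map_mul, hy, map_mul, (e1 w).2 hw, mul_one]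
  have hL := npc' (C := C) (K := K) (fun c hc => ⟨2, (e1 _).1 (by rw [map_pow]; exact t.pw (hC ▸ hc :))⟩) (MC hg) og
    (cam g hg gK)
  have nL : (Op' p C).Normal := ((normal_top_iff.2 nC).pcore _).normal
  refine sol_of ?_ (hE ▸ MC) hL
  by_cases h2 : p = 2
  · subst h2
    exact Sig.odd_sol (pcore_pgroup _ _)
  obtain ⟨h, hh⟩ := t.inv ⟨g, hg, rfl⟩ fun e => gK ((e1 g).1 e)
  have CM : C ≤ M := fun c hc => mM c (t.sc h2 hh (hC ▸ hc :))
  obtain ⟨h, rfl⟩ := QuotientGroup.mk'_surjective K h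
  obtain ⟨k, hk⟩ := og
  have pe : ∀ x ∈ M, x ∉ K → PiElt {p} x := fun x hx h => by
    rw [PiElt, oc x hx h, hk]
    exact pnat_pow_self hp k
  have LK : Op' p C ≤ K := fun l hl => by
    by_contra h
    exact h (p_elt_eq_one (pe l (CM (pcore_sub _ _ hl)) h) (mem_p_elt (pcore_pgroup _ _) hl) ▸ one_mem K)
  obtain ⟨s, s1, s2, s3⟩ := odd_case h2 LK hK (fun c hc => hL c (MC hc)) (h := h) (CM (hC ▸ mem_cent.2 fun a ha => by
      rw [← mul_inv_eq_iff_eq_mul.1 (show QuotientGroup.mk' K (h * h) * a * (QuotientGroup.mk' K (h * h))⁻¹ = a by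
        calc _ = QuotientGroup.mk' K h * (QuotientGroup.mk' K h * a * (QuotientGroup.mk' K h)⁻¹) *
              (QuotientGroup.mk' K h)⁻¹ := by rw [map_mul]; group
          _ = a := by rw [hh a ha, hh _ (inv_mem ha), inv_inv])]))
    (fun x hx => (e1 _).1 (by rw [map_mul, map_mul, map_mul, map_inv, hh _ ⟨x, hx, rfl⟩, inv_mul_cancel]))
    (fun x hx y hy => (e1 _).1 (by
      rw [map_commutatorElement, commutatorElement_eq_one_iff_mul_comm]
      exact mem_cent.1 (t.ab ⟨y, hy, rfl⟩) _ ⟨x, hx, rfl⟩))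
    (fun x hx => (e1 _).1 (by rw [map_pow]; exact t.ex _ ⟨x, hx, rfl⟩))
    (fun x hx h w hw => (cam x hx h w hw).imp fun y hy => ⟨CM hy.1, hy.2⟩) hg gK
  have s4 : s ^ p = 1 := p_elt_eq_one (p_eltX (pe s s1 s2) p) (mem_p_elt (pcore_pgroup _ _) s3)
  refine nilpotent_sol (Gen.prime_Frobenius_kernel_nil (R := zpowers s) le_normalizer_of_normal ?_ ?_)
  · rw [Nat.card_zpowers, orderOf_eq_prime s4 fun e => s2 (e ▸ one_mem K)]
    exact hp
  · rw [C_zpowers, eq_bot_iff]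
    intro l hl
    have h1 := pe (s * l) (mul_mem s1 (hK (LK hl.1))) fun e => s2 ((mul_mem_cancel_right (LK hl.1)).1 e)
    have h3 : Commute s l := (mem_cent1.1 hl.2).symm
    have h4 := p_eltM (h3.inv_left.mul_right (Commute.refl s).inv_left |> fun _ =>
      (Commute.refl s).inv_left.mul_right h3.inv_left) (p_eltV.2 (pe s s1 s2)) h1
    rw [inv_mul_cancel_left] at h4
    exact p_elt_eq_one h4 (mem_p_elt (pcore_pgroup _ _) hl.1)

end Cfsg.Agent.Vz
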